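import Groth.Agent.QFPushLib.Norm
import Groth.Agent.EmbedFinLib.Main
import Groth.Agent.ProperFin.Chow
import Groth.Agent.S9834
import Groth.Agent.S9398
import Groth.Agent.S0137
import Groth.Agent.FLCLib.ExtZeroC
import Groth.Agent.SylowFiltLib.Step

/-!
# Quasi-finite direct images of constructible sheaves over universally Japanese noetherian schemes
-/

set_option autoImplicit false
set_option linter.style.haveILetI false
set_option backward.isDefEq.respectTransparency false
set_option backward.isDefEq.respectTransparency.types false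
set_option maxHeartbeats 1000000

universe u

open CategoryTheory CategoryTheory.Limits AlgebraicGeometry TopologicalSpace Opposite

noncomputable section

namespace Groth.Agent.QFPushLib

open EtPtsLib EtTraceLib EmbedFinLib

variable {X : Scheme.{u}}

theorem isN2_closed [IsNoetherian X] (hX : ∀ U : X.Opens, IsAffineOpen U → CAlg.IsUniversallyJapanese Γ(X, U))
    {Z : Scheme.{u}} [IsIntegral Z] (i : Z ⟶ X) [IsClosedImmersion i] (U : Z.Opens) [Nonempty U]
    (hU : IsAffineOpen U) : CAlg.IsN2 Γ(Z, U) := by
  have hUJ : CAlg.IsUniversallyJapanese Γ(Z, U) := by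
    refine S9834.result Z (fun W : X.affineOpens => i ⁻¹ᵁ W.1) ?_ (fun W => W.2.preimage i) (fun W => ?_) U hU
    · rw [← Scheme.Hom.preimage_iSup, iSup_affineOpens_eq_top]; rfl
    · letI := (i.app W.1).hom.toAlgebra
      haveI : Algebra.FiniteType Γ(X, W.1) Γ(Z, i ⁻¹ᵁ W.1) := RingHom.FiniteType.of_surjective _ (i.app_surjective W.1 W.2)
      exact S9398.result Γ(X, W.1) (hX W.1 W.2) Γ(Z, i ⁻¹ᵁ W.1)
  exact hUJ Γ(Z, U) inferInstance

theorem specMap_stalk_eq {Z : Scheme.{u}} {K : Type u} [Field K] (g : Spec (CommRingCat.of K) ⟶ Z) {y : Z}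
    (hy : g (IsLocalRing.closedPoint K) ⤳ y) :
    g = Spec.map (Z.presheaf.stalkSpecializes hy ≫ Scheme.stalkClosedPointTo g) ≫ Z.fromSpecStalk y := by
  have e : Spec.map (Z.presheaf.stalkSpecializes hy) ≫ Z.fromSpecStalk y = Z.fromSpecStalk (g (IsLocalRing.closedPoint K)) :=
    Scheme.SpecMap_stalkSpecializes_fromSpecStalk hy
  rw [Spec.map_comp, Category.assoc, e]
  exact (Scheme.Spec_stalkClosedPointTo_fromSpecStalk g).symm

/-- The direct image of a finite constant sheaf from a point finite over its image. -/
theorem isConstructible_push_point [IsNoetherian X]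
    (hX : ∀ U : X.Opens, IsAffineOpen U → CAlg.IsUniversallyJapanese Γ(X, U))
    {K : Type u} [Field K] (h : Spec (CommRingCat.of K) ⟶ X) [LocallyQuasiFinite h] (M : Type) [AddCommGroup M]
    [Finite M] : EtPBC.IsConstructible ((EtCoh.push h).obj (EtCoh.const (Spec (CommRingCat.of K)) M)) := by
  let Z := h.image
  let i : Z ⟶ X := h.imageι
  let g : Spec (CommRingCat.of K) ⟶ Z := h.toImage
  haveI : IsIntegral Z := ProperFin.isIntegral_image h
  haveI : IsLocallyNoetherian Z := LocallyOfFiniteType.isLocallyNoetherian i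
  have hgen : g (IsLocalRing.closedPoint K) = genericPoint Z := by
    haveI : Unique (Spec (CommRingCat.of K)) := inferInstanceAs (Unique (PrimeSpectrum K))
    refine ((genericPoint_spec Z).eq ?_).symm
    show closure {g (IsLocalRing.closedPoint K)} = (⊤ : Set Z)
    rw [show ({g (IsLocalRing.closedPoint K)} : Set Z) = Set.range g by
      rw [Set.range_unique]; exact congrArg (fun p => {g p}) (Subsingleton.elim _ _)]
    exact g.denseRange.closure_range
  let φc : Z.presheaf.stalk (genericPoint Z) ⟶ CommRingCat.of K :=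
    Z.presheaf.stalkSpecializes (specializes_of_eq hgen) ≫ Scheme.stalkClosedPointTo g
  have hg : g = Spec.map φc ≫ Z.fromSpecStalk (genericPoint Z) := specMap_stalk_eq g (specializes_of_eq hgen)
  let φ : Z.functionField →+* K := φc.hom
  have hφ : φ.Finite := by
    haveI : LocallyQuasiFinite (g ≫ i) := by
      show LocallyQuasiFinite (h.toImage ≫ h.imageι)
      rw [Scheme.Hom.toImage_imageι]; infer_instance
    haveI : LocallyQuasiFinite g := LocallyQuasiFinite.of_comp g i
    haveI : LocallyQuasiFinite (Spec.map φc ≫ Z.fromSpecStalk (genericPoint Z)) := by rw [← hg]; infer_instance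
    haveI hq : LocallyQuasiFinite (Spec.map φc) := LocallyQuasiFinite.of_comp _ (Z.fromSpecStalk (genericPoint Z))
    letI : Algebra Z.functionField K := φ.toAlgebra
    haveI : Algebra.QuasiFinite Z.functionField K :=
      (HasRingHomProperty.Spec_iff (P := @LocallyQuasiFinite)).1 hq
    haveI : IsArtinianRing Z.functionField := inferInstance
    exact Module.Finite.of_quasiFinite
  haveI : QuasiCompact g := inferInstance
  haveI : QuasiSeparated g := inferInstance
  have hN2 := fun (U : Z.Opens) [Nonempty U] hU => isN2_closed hX i U hU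
  have hg' : g = Spec.map (CommRingCat.ofHom φ) ≫ Z.fromSpecStalk (genericPoint Z) := hg
  haveI := isFinite_fromNormalization φ g hg' hN2 hφ
  let Mu := AddCommGrpCat.of (ULift.{u + 1} M)
  haveI : IsIso ((EtCoh.pullPushAdj g.toNormalization).unit.app (ConstGenLib.C Mu)) :=
    ConstGenLib.isIso_unit g.toNormalization Mu (connAlong_toNormalization φ g hg' hN2 hφ)
  let π : g.normalization ⟶ X := g.fromNormalization ≫ i
  have hπ : h = g.toNormalization ≫ π := by
    rw [Scheme.Hom.toNormalization_fromNormalization_assoc, Scheme.Hom.toImage_imageι]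
  let e : (EtCoh.push π).obj (EtCoh.const g.normalization M) ≅ (EtCoh.push h).obj (EtCoh.const _ M) :=
    (EtCoh.push π).mapIso (asIso ((EtCoh.pullPushAdj g.toNormalization).unit.app (ConstGenLib.C Mu)) ≪≫
        (EtCoh.push g.toNormalization).mapIso (EtCore.pullConst g.toNormalization M)) ≪≫
      (EtCoh.pushComp π g.toNormalization).app _ ≪≫ (EtCoh.pushCongr hπ.symm).app _
  refine FLCLib.isConstructible_of_iso e ?_
  haveI : LocallyOfFinitePresentation π := inferInstance
  exact S0137.result π _ (FLCLib.isConstructible_of_flc (SylowFiltLib.isFiniteLocallyConstant_const _ M))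

theorem finite_maximal_points (T : Scheme.{u}) [IsNoetherian T] : {t : T | ∀ t', t' ⤳ t → t' = t}.Finite := by
  classical
  let A : Set (Set T) := irreducibleComponents (T : Type u)
  haveI : Finite A := TopologicalSpace.NoetherianSpace.finite_irreducibleComponents.to_subtype
  let γ : A → T := fun C => C.2.1.genericPoint
  refine (Set.finite_range γ).subset fun t ht => ⟨⟨irreducibleComponent t, irreducibleComponent_mem_irreducibleComponents t⟩, ?_⟩
  refine ht _ ?_
  rw [specializes_iff_mem_closure, IsIrreducible.genericPoint_closure_eq]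
  exact subset_closure mem_irreducibleComponent

/-- A constant sheaf embeds into the direct images from the generic points of the components. -/
theorem exists_mono_genericPoints (T : Scheme.{u}) [IsNoetherian T] (M : Type) [AddCommGroup M] :
    ∃ (k : ℕ) (t : Fin k → T) (a : EtCoh.const T M ⟶ ⨁ fun i =>
      (EtCoh.push (T.fromSpecResidueField (t i))).obj
        (EtCoh.const (Spec (CommRingCat.of (T.residueField (t i)))) M)), Mono a := by
  classical
  let P := (finite_maximal_points T).toFinset
  let t : Fin P.card → T := fun i => (P.equivFin.symm i).1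
  let Mu := AddCommGrpCat.of (ULift.{u + 1} M)
  let G := fun i => (EtCoh.push (T.fromSpecResidueField (t i))).obj
        (EtCoh.const (Spec (CommRingCat.of (T.residueField (t i)))) M)
  let a : EtCoh.const T M ⟶ ⨁ G := biproduct.lift fun i => cmap (T.fromSpecResidueField (t i)) Mu
  refine ⟨P.card, t, a, (mono_iff_ab _).2 fun Ω _ _ ξ =>
    (injective_iff_map_eq_zero ((EtCoh.stalk ξ).map a).hom).2 fun e he => ?_⟩
  obtain ⟨U, l, s, rfl⟩ := (Scheme.pointSmallEtale ξ).toPresheafFiber_jointly_surjective e
  have h1 : ∀ i, ∃ (V : T.Etale) (p : V ⟶ U) (y : (Scheme.pointSmallEtale ξ).fiber.obj V),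
      (Scheme.pointSmallEtale ξ).fiber.map p y = l ∧
        (G i).obj.map p.op ((cmap (T.fromSpecResidueField (t i)) Mu).hom.app (op U) s) = 0 := fun i => by
    have hi : germ ξ (G i) l ((cmap (T.fromSpecResidueField (t i)) Mu).hom.app (op U) s) =
        germ ξ (G i) l (0 : EtCoh.sect (G i) U) := by
      refine ((Scheme.pointSmallEtale ξ).toPresheafFiber_naturality_apply
        (cmap (T.fromSpecResidueField (t i)) Mu).hom U l s).symm.trans ?_
      refine Eq.trans ?_ (map_zero ((Scheme.pointSmallEtale ξ).toPresheafFiber U l (G i).obj).hom).symm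
      change (EtCoh.stalk ξ).map (cmap (T.fromSpecResidueField (t i)) Mu) _ = 0
      rw [← biproduct.lift_π (fun i => cmap (T.fromSpecResidueField (t i)) Mu) i, FLCLib.stalk_comp]
      exact (congrArg _ he).trans (map_zero _)
    obtain ⟨V, p, y, hy, hV⟩ := ((Scheme.pointSmallEtale ξ).toPresheafFiber_eq_iff' U l _ _).1 hi
    exact ⟨V, p, y, hy, hV.trans (map_zero _)⟩
  choose V p y hy hV using h1
  have key : ∀ i (u₀ : U.left) (z : ((EtCoh.bc (T.fromSpecResidueField (t i))).obj (V i)).left),
      (p i).left (pullback.fst (V i).hom (T.fromSpecResidueField (t i)) z) ⤳ u₀ → cval U s u₀ = 0 := fun i u₀ z hz => by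
    have hc : cval U s ((p i).left (pullback.fst (V i).hom (T.fromSpecResidueField (t i)) z)) = 0 := by
      rw [← cval_map, ← cval_cmap, show (cmap (T.fromSpecResidueField (t i)) Mu).hom.app (op (V i))
        ((cSh T Mu).obj.map (p i).op s) = (G i).obj.map (p i).op ((cmap (T.fromSpecResidueField (t i)) Mu).hom.app (op U) s)
        from NatTrans.naturality_apply (cmap (T.fromSpecResidueField (t i)) Mu).hom (p i).op s, hV i]
      exact cval_zero _ z
    rw [← hc]
    exact (((isLocallyConstant_cval U s).isOpen_fiber _).stableUnderGeneralization hz rfl).symm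
  obtain ⟨W, k, w, hw, hW⟩ := isVal_cval U s (liftHom ξ l default)
  suffices hc : cval U s (liftHom ξ l default) = 0 by
    obtain ⟨y', hy'⟩ := exists_fiber_map_eq ξ k l w hw
    show germ ξ (cSh T Mu) l s = 0
    rw [← hy']
    refine (germ_map ξ (cSh T Mu) k y' s).symm.trans ?_
    rw [hW, hc, map_zero]
    exact map_zero _
  haveI := U.prop
  haveI : AlgebraicGeometry.Etale U.hom := U.prop
  haveI : IsNoetherian T := ‹_›
  let u₀ := liftHom ξ l default
  haveI : IsLocallyNoetherian ((Functor.fromPUnit T).obj U.right) := (inferInstance : IsLocallyNoetherian T)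
  haveI : IsLocallyNoetherian U.left := LocallyOfFiniteType.isLocallyNoetherian U.hom
  let ζ : U.left := (irreducibleComponent_mem_irreducibleComponents u₀).1.genericPoint
  have hζ : ζ ⤳ u₀ := by
    rw [specializes_iff_mem_closure, IsIrreducible.genericPoint_closure_eq]
    exact subset_closure mem_irreducibleComponent
  have hζmax : ∀ ζ', ζ' ⤳ ζ → ζ' = ζ := fun ζ' hz => by
    have h1 : closure {ζ} ⊆ closure {ζ'} := closure_minimal (Set.singleton_subset_iff.2
      (specializes_iff_mem_closure.1 hz)) isClosed_closure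
    have hcomp := irreducibleComponent_mem_irreducibleComponents u₀
    have h2 : closure {ζ} = irreducibleComponent u₀ := by
      rw [IsIrreducible.genericPoint_closure_eq]; exact (isClosed_irreducibleComponent).closure_eq
    have h3 : closure {ζ'} ⊆ irreducibleComponent u₀ := hcomp.2 isIrreducible_singleton.closure (h2 ▸ h1)
    exact (hz.antisymm (specializes_iff_mem_closure.2 (h2 ▸ h3 (subset_closure rfl)))).eq
  have hmax : U.hom ζ ∈ P := by
    rw [Set.Finite.mem_toFinset]
    intro t' ht'
    obtain ⟨ζ', hζ', he'⟩ := Flat.generalizingMap U.hom ht'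
    rw [← he', hζmax ζ' hζ']
  obtain ⟨i, hi⟩ : ∃ i, t i = U.hom ζ := ⟨P.equivFin ⟨_, hmax⟩, by simp [t]⟩
  haveI : AlgebraicGeometry.Etale (p i).left := etale_left (p i)
  have hsp : ζ ⤳ (p i).left (liftHom ξ (y i) default) := by
    have e : (p i).left (liftHom ξ (y i) default) = u₀ := by
      show _ = liftHom ξ l default
      rw [← hy i]
      rfl
    rw [e]; exact hζ
  obtain ⟨v, hv, hv'⟩ := Flat.generalizingMap (p i).left hsp
  obtain ⟨z, hz⟩ : v ∈ Set.range (pullback.fst (V i).hom (T.fromSpecResidueField (t i))) := by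
    rw [Scheme.Pullback.range_fst]
    show (V i).hom v ∈ Set.range (T.fromSpecResidueField (t i))
    rw [Scheme.range_fromSpecResidueField, Set.mem_singleton_iff, hi, ← hv']
    exact congr($(Over.w (p i).hom) v).symm
  exact key i u₀ z (by rw [hz, hv']; exact hζ)

theorem isConstructible_push_const [IsNoetherian X]
    (hX : ∀ U : X.Opens, IsAffineOpen U → CAlg.IsUniversallyJapanese Γ(X, U))
    {T : Scheme.{u}} [IsNoetherian T] (f : T ⟶ X) [LocallyQuasiFinite f] (M : Type) [AddCommGroup M] [Finite M] :
    EtPBC.IsConstructible ((EtCoh.push f).obj (EtCoh.const T M)) := by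
  classical
  obtain ⟨k, t, a, ha⟩ := exists_mono_genericPoints T M
  haveI := ha
  haveI := (EtCoh.pullPushAdj f).rightAdjoint_preservesLimits.{0, 0}
  haveI : (EtCoh.push f).Additive := inferInstance
  let G := fun i => (EtCoh.push (T.fromSpecResidueField (t i) ≫ f)).obj
    (EtCoh.const (Spec (CommRingCat.of (T.residueField (t i)))) M)
  let E : (EtCoh.push f).obj (⨁ fun i => (EtCoh.push (T.fromSpecResidueField (t i))).obj
      (EtCoh.const (Spec (CommRingCat.of (T.residueField (t i)))) M)) ≅ ⨁ G :=
    (EtCoh.push f).mapBiproduct _ ≪≫ biproduct.mapIso fun i => (EtCoh.pushComp f (T.fromSpecResidueField (t i))).app _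
  haveI : Mono ((EtCoh.push f).map a) := inferInstance
  haveI : Mono ((EtCoh.push f).map a ≫ E.hom) := mono_comp _ _
  have hk : ∀ i, EtCoh.KilledBy (Nat.card M) (G i) := fun i => CompBCLib.killedBy_push _
    (killedBy_const_finite _ M)
  have hG := FLCLib.isConstructible_biproduct (Nat.card_pos (α := M)) hk fun i =>
    isConstructible_push_point hX (T.fromSpecResidueField (t i) ≫ f) M
  exact ((FLCLib.genCard_of_isConstructible hG).genConst.sub ((EtCoh.push f).map a ≫ E.hom)).isConstructible
where
  killedBy_const_finite (S : Scheme.{u}) (M : Type) [AddCommGroup M] [Finite M] :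
      EtCoh.KilledBy (Nat.card M) (EtCoh.const S M) := fun U s => by
    refine cval_ext (M := AddCommGrpCat.of (ULift.{u + 1} M)) fun z => ?_
    have h1 : ∀ m : ℕ, cval U (m • s) z = m • cval U s z := fun m => by
      induction m with
      | zero => simp [cval_zero]
      | succ m ih => rw [succ_nsmul, succ_nsmul, cval_add, ih]
    rw [h1, cval_zero]
    exact ULift.ext _ _ (card_nsmul_eq_zero' (x := (cval U s z).down))

/-- Direct images of constructible sheaves along quasi-finite morphisms are constructible. -/
theorem isConstructible_push [IsNoetherian X]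
    (hX : ∀ U : X.Opens, IsAffineOpen U → CAlg.IsUniversallyJapanese Γ(X, U))
    {Y : Scheme.{u}} (q : Y ⟶ X) [LocallyQuasiFinite q] [LocallyOfFiniteType q] [QuasiCompact q]
    (F : EtCoh.Ab Y) (hF : EtPBC.IsConstructible F) : EtPBC.IsConstructible ((EtCoh.push q).obj F) := by
  classical
  haveI := LocallyOfFiniteType.isLocallyNoetherian q
  haveI := QuasiCompact.compactSpace_of_compactSpace q
  haveI : IsNoetherian Y := {}
  obtain ⟨n, T, f, hf, M, iM, fM, ι, hι⟩ := EmbedFinLib.exists_mono_finite hF
  haveI := hι
  haveI := hf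
  haveI := (EtCoh.pullPushAdj q).rightAdjoint_preservesLimits.{0, 0}
  haveI : (EtCoh.push q).Additive := inferInstance
  let G := fun i => (EtCoh.push (f i ≫ q)).obj (EtCoh.const (T i) (M i))
  let E : (EtCoh.push q).obj (⨁ fun i => (EtCoh.push (f i)).obj (EtCoh.const (T i) (M i))) ≅ ⨁ G :=
    (EtCoh.push q).mapBiproduct _ ≪≫ biproduct.mapIso fun i => (EtCoh.pushComp q (f i)).app _
  haveI : Mono ((EtCoh.push q).map ι) := inferInstance
  haveI : Mono ((EtCoh.push q).map ι ≫ E.hom) := mono_comp _ _
  let N := ∏ i, Nat.card (M i)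
  have hN : 0 < N := Finset.prod_pos fun i _ => Nat.card_pos
  have hk : ∀ i, EtCoh.KilledBy N (G i) := fun i => by
    refine CompBCLib.killedBy_push _ fun U s => ?_
    obtain ⟨c, hc⟩ : Nat.card (M i) ∣ N := Finset.dvd_prod_of_mem _ (Finset.mem_univ i)
    rw [hc, mul_comm, mul_smul, isConstructible_push_const.killedBy_const_finite (T i) (M i) U s, smul_zero]
  have hc : ∀ i, EtPBC.IsConstructible (G i) := fun i => by
    haveI := LocallyOfFiniteType.isLocallyNoetherian (f i)
    haveI := QuasiCompact.compactSpace_of_compactSpace (f i)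
    haveI : IsNoetherian (T i) := {}
    exact isConstructible_push_const hX (f i ≫ q) (M i)
  have hG := FLCLib.isConstructible_biproduct hN hk hc
  exact ((FLCLib.genCard_of_isConstructible hG).genConst.sub ((EtCoh.push q).map ι ≫ E.hom)).isConstructible

end Groth.Agent.QFPushLib
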