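import Groth.Agent.FinIntClosure.Normalization
import Groth.Agent.CurveFin.Norm
import Groth.Agent.ConstGenLib.Normal
import Groth.Prelude.Def_Found

/-!
# Normalisation in a finite extension of the function field of a scheme with N-2 affine rings
-/

set_option autoImplicit false
set_option linter.style.haveILetI false
set_option backward.isDefEq.respectTransparency false
set_option backward.isDefEq.respectTransparency.types false
set_option maxHeartbeats 1000000

universe u

open CategoryTheory CategoryTheory.Limits AlgebraicGeometry TopologicalSpace Opposite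

noncomputable section

namespace Groth.Agent.QFPushLib

variable {Z : Scheme.{u}} [IsIntegral Z] {K : Type u} [Field K] (φ : Z.functionField →+* K)
  (g : Spec (CommRingCat.of K) ⟶ Z)
  (hg : g = Spec.map (CommRingCat.ofHom φ) ≫ Z.fromSpecStalk (genericPoint Z))
  (hN2 : ∀ (U : Z.Opens) [Nonempty U], IsAffineOpen U → CAlg.IsN2 Γ(Z, U))

include hg hN2 in
theorem affine_part (hφ : φ.Finite) (U : Z.Opens) [Nonempty U] (hU : IsAffineOpen U) :
    letI := (g.app U).hom.toAlgebra
    let L := Γ(Spec (CommRingCat.of K), g ⁻¹ᵁ U)
    IsDomain L ∧ Module.Finite Γ(Z, U) (integralClosure Γ(Z, U) L) ∧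
        IsIntegrallyClosed (integralClosure Γ(Z, U) L) := by
  letI algL : Algebra Γ(Z, U) Γ(Spec (CommRingCat.of K), g ⁻¹ᵁ U) := (g.app U).hom.toAlgebra
  intro L
  let A := Γ(Z, U)
  let ε : K ≃+* L := FinIntClosure.fieldEquiv φ g hg U
  letI fL : Field L := (MulEquiv.isField (Field.toIsField K) ε.symm.toMulEquiv).toField
  haveI : IsFractionRing A Z.functionField := functionField_isFractionRing_of_isAffineOpen Z U hU
  letI algF : Algebra Z.functionField L := (ε.toRingHom.comp φ).toAlgebra
  haveI : IsScalarTower A Z.functionField L := IsScalarTower.of_algebraMap_eq fun a => by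
    change (g.app U) a = ε (φ (Z.germToFunctionField U a))
    rw [FinIntClosure.app_eq φ g hg U]
    rfl
  have hfin : (ε.toRingHom.comp φ).Finite :=
    RingHom.Finite.comp (RingHom.Finite.of_surjective ε.toRingHom ε.surjective) hφ
  haveI : FiniteDimensional Z.functionField L := hfin
  let θ : FractionRing A ≃ₐ[A] Z.functionField := IsLocalization.algEquiv (nonZeroDivisors A) _ _
  letI algQ : Algebra (FractionRing A) L := ((algebraMap Z.functionField L).comp θ.toRingEquiv.toRingHom).toAlgebra
  haveI : IsScalarTower A (FractionRing A) L := IsScalarTower.of_algebraMap_eq fun a => by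
    show algebraMap A L a = algebraMap Z.functionField L (θ (algebraMap A (FractionRing A) a))
    rw [θ.commutes, ← IsScalarTower.algebraMap_apply]
  haveI : FiniteDimensional (FractionRing A) L :=
    RingHom.Finite.comp hfin (RingHom.Finite.of_surjective θ.toRingEquiv.toRingHom θ.surjective)
  exact ⟨inferInstance, hN2 U hU L inferInstance,
    integralClosure.isIntegrallyClosedOfFiniteExtension (K := Z.functionField)⟩

include hg hN2 in
theorem isFinite_fromNormalization (hφ : φ.Finite) [QuasiCompact g] [QuasiSeparated g] :
    IsFinite g.fromNormalization := by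
  refine { finite_app := fun U hU => ?_ }
  rw [g.fromNormalization_app hU]
  letI := (g.app U).hom.toAlgebra
  rw [CommRingCat.hom_comp]
  refine RingHom.Finite.comp (RingHom.Finite.of_surjective _
    (g.normalizationObjIso hU).symm.commRingCatIsoToRingEquiv.surjective) ?_
  rw [CommRingCat.hom_ofHom, RingHom.finite_algebraMap]
  rcases isEmpty_or_nonempty U with hUe | hUne
  · haveI : Subsingleton Γ(Spec (CommRingCat.of K), g ⁻¹ᵁ U) := by
      have : g ⁻¹ᵁ U = ⊥ := by
        rw [show U = ⊥ from Opens.ext (Set.isEmpty_coe_sort.mp hUe)]; rfl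
      rw [this]; infer_instance
    infer_instance
  · exact (affine_part φ g hg hN2 hφ U hU).2.1

include hg hN2 in
theorem isNormalScheme_normalization (hφ : φ.Finite) [QuasiCompact g] [QuasiSeparated g] :
    Pi1.IsNormalScheme g.normalization := fun y => by
  obtain ⟨_, ⟨U, hU, rfl⟩, hyU, -⟩ :=
    Z.isBasis_affineOpens.exists_subset_of_mem_open (Set.mem_univ (g.fromNormalization y)) isOpen_univ
  haveI : Nonempty U := ⟨⟨_, hyU⟩⟩
  letI algL := (g.app U).hom.toAlgebra
  obtain ⟨hdom, hfin, hic⟩ := affine_part φ g hg hN2 hφ U hU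
  let A := Γ(Z, U)
  let C := integralClosure A Γ(Spec (CommRingCat.of K), g ⁻¹ᵁ U)
  haveI : IsDomain C := inferInstance
  let V := g.fromNormalization ⁻¹ᵁ U
  have hV : IsAffineOpen V := hU.preimage _
  let e : Γ(g.normalization, V) ≃+* C := (g.normalizationObjIso hU).commRingCatIsoToRingEquiv
  haveI : IsDomain Γ(g.normalization, V) := e.toMulEquiv.isDomain C
  haveI : IsIntegrallyClosed Γ(g.normalization, V) := IsIntegrallyClosed.of_equiv e.symm
  let Q := hV.primeIdealOf ⟨y, hyU⟩
  letI := g.normalization.presheaf.algebra_section_stalk (⟨y, hyU⟩ : V)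
  haveI := hV.isLocalization_stalk ⟨y, hyU⟩
  have hQle : Q.asIdeal.primeCompl ≤ nonZeroDivisors Γ(g.normalization, V) :=
    Q.asIdeal.primeCompl_le_nonZeroDivisors
  haveI : IsDomain (g.normalization.presheaf.stalk y) :=
    IsLocalization.isDomain_of_le_nonZeroDivisors _ hQle
  exact ⟨inferInstance, isIntegrallyClosed_of_isLocalization _ Q.asIdeal.primeCompl hQle⟩

include hg hN2 in
theorem connAlong_toNormalization (hφ : φ.Finite) [QuasiCompact g] [QuasiSeparated g] :
    ConstGenLib.ConnAlong g.toNormalization := by
  haveI : IsIntegral (Spec (CommRingCat.of K)) := inferInstance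
  haveI : IsIntegral g.normalization := inferInstance
  haveI := CurveFin.isPreimmersion_toNormalization φ g hg hφ
  exact ConstGenLib.connAlong_of_range_eq _ (CurveFin.range_toNormalization g)
    (isNormalScheme_normalization φ g hg hN2 hφ)

end Groth.Agent.QFPushLib
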